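import Groth.Prelude.Def_DiffOp
import Mathlib.RingTheory.Kaehler.Basic

/-!
Differential operators through the action of `B ⊗[A] B` on `A`-linear maps.
-/

namespace Groth.Agent.DiffOp

open TensorProduct Diff16

universe u v

variable {A B : Type u} [CommRing A] [CommRing B] [Algebra A B]
variable {M N : Type v} [AddCommGroup M] [Module A M] [Module B M] [IsScalarTower A B M]
  [AddCommGroup N] [Module A N] [Module B N] [IsScalarTower A B N]

variable (A B M N) in
/-- `b` acts on linear maps by precomposition. -/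
noncomputable def actR : B →ₐ[A] Module.End A (M →ₗ[A] N) where
  toFun b := LinearMap.lcomp A N ((LinearMap.lsmul B M b).restrictScalars A)
  map_one' := by
    refine LinearMap.ext fun D => LinearMap.ext fun m => ?_
    simp
  map_mul' b c := by
    refine LinearMap.ext fun D => LinearMap.ext fun m => ?_
    simp [smul_smul, mul_comm]
  map_zero' := by
    refine LinearMap.ext fun D => LinearMap.ext fun m => ?_
    simp
  map_add' b c := by
    refine LinearMap.ext fun D => LinearMap.ext fun m => ?_
    simp [add_smul]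
  commutes' a := by
    refine LinearMap.ext fun D => LinearMap.ext fun m => ?_
    simp

variable (A B M N) in
/-- The action of `B ⊗[A] B` on `M →ₗ[A] N`. -/
noncomputable def act : B ⊗[A] B →ₐ[A] Module.End A (M →ₗ[A] N) :=
  Algebra.TensorProduct.lift (Algebra.lsmul A A (M →ₗ[A] N)) (actR A B M N) fun b c => by
    refine LinearMap.ext fun D => LinearMap.ext fun m => ?_
    simp [actR]

@[simp]
theorem act_tmul (b c : B) (D : M →ₗ[A] N) (m : M) :
    act A B M N (b ⊗ₜ c) D m = b • D (c • m) := by
  simp [act, actR]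

/-- The ideal of elements killing a linear map. -/
noncomputable def ann (D : M →ₗ[A] N) : Ideal (B ⊗[A] B) where
  carrier := {x | act A B M N x D = 0}
  zero_mem' := by simp
  add_mem' {x y} hx hy := by
    show act A B M N (x + y) D = 0
    rw [map_add, LinearMap.add_apply, hx, hy, add_zero]
  smul_mem' c x hx := by
    show act A B M N (c * x) D = 0
    rw [map_mul, Module.End.mul_apply, hx, map_zero]

theorem mem_ann {D : M →ₗ[A] N} {x : B ⊗[A] B} : x ∈ ann D ↔ act A B M N x D = 0 := Iff.rfl

variable (A) in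
/-- `1 ⊗ b - b ⊗ 1`. -/
noncomputable def delta (b : B) : B ⊗[A] B := 1 ⊗ₜ b - b ⊗ₜ 1

theorem delta_mem (b : B) : delta A b ∈ KaehlerDifferential.ideal A B :=
  KaehlerDifferential.one_smul_sub_smul_one_mem_ideal A b

theorem commutator_eq (D : M →ₗ[A] N) (b : B) :
    Diff16.commutator A B M N D b = act A B M N (delta A b) D := by
  refine LinearMap.ext fun m => ?_
  simp [Diff16.commutator, delta]

theorem act_mul (x y : B ⊗[A] B) (D : M →ₗ[A] N) :
    act A B M N (x * y) D = act A B M N x (act A B M N y D) := by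
  rw [map_mul]; rfl

theorem isDiffOpLE_zero_iff (D : M →ₗ[A] N) :
    IsDiffOpLE A B M N 0 D ↔ ∀ b, act A B M N (delta A b) D = 0 := by
  simp [IsDiffOpLE, delta, LinearMap.ext_iff, sub_eq_zero]

theorem isDiffOpLE_iff (n : ℕ) (D : M →ₗ[A] N) :
    IsDiffOpLE A B M N n D ↔ KaehlerDifferential.ideal A B ^ (n + 1) ≤ ann D := by
  induction n generalizing D with
  | zero =>
    rw [isDiffOpLE_zero_iff, zero_add, pow_one, ← KaehlerDifferential.span_range_eq_ideal,
      Ideal.span_le, Set.range_subset_iff]
    rfl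
  | succ n ih =>
    show (∀ b, IsDiffOpLE A B M N n (Diff16.commutator A B M N D b)) ↔ _
    simp only [ih, commutator_eq]
    rw [pow_succ _ (n + 1), Ideal.mul_le]
    constructor
    · intro h x hx y hy
      rw [← KaehlerDifferential.span_range_eq_ideal] at hy
      induction hy using Submodule.span_induction with
      | mem z hz =>
        obtain ⟨b, rfl⟩ := hz
        show act A B M N (x * delta A b) D = 0
        rw [act_mul]
        exact h b hx
      | zero => rw [mul_zero]; exact zero_mem _
      | add z w _ _ hz hw => rw [mul_add]; exact add_mem hz hw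
      | smul c z _ hz => rw [smul_eq_mul, mul_left_comm]; exact Ideal.mul_mem_left _ _ hz
    · intro h b x hx
      show act A B M N x (act A B M N (delta A b) D) = 0
      rw [← act_mul]
      exact h x hx _ (delta_mem b)

theorem isDiffOpLE_iff' (n : ℕ) (D : M →ₗ[A] N) :
    IsDiffOpLE A B M N n D ↔
      ∀ x ∈ KaehlerDifferential.ideal A B ^ (n + 1), act A B M N x D = 0 :=
  isDiffOpLE_iff n D

theorem isDiffOpLE_iff_prod (n : ℕ) (D : M →ₗ[A] N) :
    IsDiffOpLE A B M N n D ↔
      ∀ b : Fin (n + 1) → B, act A B M N (∏ i, delta A (b i)) D = 0 := by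
  constructor
  · intro h b
    refine (isDiffOpLE_iff n D).1 h ?_
    have := Ideal.prod_mem_prod (s := (Finset.univ : Finset (Fin (n + 1))))
      (I := fun _ => KaehlerDifferential.ideal A B) (x := fun i => delta A (b i))
      fun i _ => delta_mem (b i)
    simpa using this
  · induction n generalizing D with
    | zero => intro h; exact (isDiffOpLE_zero_iff D).2 fun b => by simpa using h fun _ => b
    | succ n ih =>
      intro h c
      refine ih _ fun b => ?_
      rw [commutator_eq, ← act_mul]
      have := h (Fin.cons c b)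
      rw [Fin.prod_univ_succ] at this
      simpa [mul_comm] using this

theorem isDiffOpLE_zero (n : ℕ) : IsDiffOpLE A B M N n (0 : M →ₗ[A] N) :=
  (isDiffOpLE_iff' n 0).2 fun x _ => map_zero _

theorem _root_.Diff16.IsDiffOpLE.add {n : ℕ} {D E : M →ₗ[A] N} (hD : IsDiffOpLE A B M N n D)
    (hE : IsDiffOpLE A B M N n E) : IsDiffOpLE A B M N n (D + E) :=
  (isDiffOpLE_iff' n _).2 fun x hx => by
    rw [map_add, (isDiffOpLE_iff' n D).1 hD x hx, (isDiffOpLE_iff' n E).1 hE x hx, add_zero]

theorem _root_.Diff16.IsDiffOpLE.sub {n : ℕ} {D E : M →ₗ[A] N} (hD : IsDiffOpLE A B M N n D)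
    (hE : IsDiffOpLE A B M N n E) : IsDiffOpLE A B M N n (D - E) :=
  (isDiffOpLE_iff' n _).2 fun x hx => by
    rw [map_sub, (isDiffOpLE_iff' n D).1 hD x hx, (isDiffOpLE_iff' n E).1 hE x hx, sub_zero]

theorem _root_.Diff16.IsDiffOpLE.act_left {n : ℕ} {D : M →ₗ[A] N} (hD : IsDiffOpLE A B M N n D) (y : B ⊗[A] B) :
    IsDiffOpLE A B M N n (act A B M N y D) :=
  (isDiffOpLE_iff' n _).2 fun x hx => by
    rw [← act_mul, mul_comm, act_mul, (isDiffOpLE_iff' n D).1 hD x hx, map_zero]

theorem _root_.Diff16.IsDiffOpLE.smul {n : ℕ} {D : M →ₗ[A] N} (hD : IsDiffOpLE A B M N n D) (b : B) :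
    IsDiffOpLE A B M N n (b • D) := by
  have h : act A B M N (b ⊗ₜ 1) D = b • D := LinearMap.ext fun m => by simp
  exact h ▸ hD.act_left (b ⊗ₜ 1)

theorem _root_.Diff16.IsDiffOpLE.mono {n n' : ℕ} (h : n ≤ n') {D : M →ₗ[A] N} (hD : IsDiffOpLE A B M N n D) :
    IsDiffOpLE A B M N n' D :=
  (isDiffOpLE_iff n' D).2 ((Ideal.pow_le_pow_right (Nat.succ_le_succ h)).trans
    ((isDiffOpLE_iff n D).1 hD))

section comp

variable {P : Type v} [AddCommGroup P] [Module A P] [Module B P] [IsScalarTower A B P]

theorem act_comp_linear_left (x : B ⊗[A] B) (g : N →ₗ[B] P) (D : M →ₗ[A] N) :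
    act A B M P x (g.restrictScalars A ∘ₗ D) = g.restrictScalars A ∘ₗ act A B M N x D := by
  induction x using TensorProduct.induction_on with
  | zero => simp
  | tmul b c => exact LinearMap.ext fun m => by simp
  | add x y hx hy => simp [map_add, hx, hy, LinearMap.comp_add]

theorem act_comp_linear_right (x : B ⊗[A] B) (g : M →ₗ[B] N) (D : N →ₗ[A] P) :
    act A B M P x (D ∘ₗ g.restrictScalars A) = act A B N P x D ∘ₗ g.restrictScalars A := by
  induction x using TensorProduct.induction_on with
  | zero => simp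
  | tmul b c => exact LinearMap.ext fun m => by simp
  | add x y hx hy => simp [map_add, hx, hy, LinearMap.add_comp]

theorem _root_.Diff16.IsDiffOpLE.comp_linear_left {n : ℕ} (g : N →ₗ[B] P) {D : M →ₗ[A] N}
    (hD : IsDiffOpLE A B M N n D) : IsDiffOpLE A B M P n (g.restrictScalars A ∘ₗ D) :=
  (isDiffOpLE_iff' n _).2 fun x hx => by
    rw [act_comp_linear_left, (isDiffOpLE_iff' n D).1 hD x hx, LinearMap.comp_zero]

theorem commutator_comp (D : M →ₗ[A] N) (D' : N →ₗ[A] P) (b : B) :
    Diff16.commutator A B M P (D' ∘ₗ D) b =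
      Diff16.commutator A B N P D' b ∘ₗ D + D' ∘ₗ Diff16.commutator A B M N D b :=
  LinearMap.ext fun m => by simp [Diff16.commutator]

theorem _root_.Diff16.IsDiffOpLE.comp {n n' : ℕ} {D : M →ₗ[A] N} {D' : N →ₗ[A] P}
    (hD : IsDiffOpLE A B M N n D) (hD' : IsDiffOpLE A B N P n' D') :
    IsDiffOpLE A B M P (n + n') (D' ∘ₗ D) := by
  obtain ⟨k, hk⟩ : ∃ k, n + n' = k := ⟨_, rfl⟩
  induction k generalizing n n' D D' with
  | zero =>
    obtain ⟨rfl, rfl⟩ : n = 0 ∧ n' = 0 := by omega
    intro b m
    simp [hD b m, hD' b (D m)]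
  | succ k ih =>
    rw [hk]
    intro b
    rw [commutator_comp]
    refine IsDiffOpLE.add ?_ ?_
    · cases n' with
      | zero =>
        have h0 : Diff16.commutator A B N P D' b = 0 := LinearMap.ext fun m => by simp [Diff16.commutator, hD' b m]
        rw [h0, LinearMap.zero_comp]
        exact isDiffOpLE_zero k
      | succ p =>
        have hk' : n + p = k := by omega
        exact hk' ▸ ih hD (hD' b) hk'
    · cases n with
      | zero =>
        have h0 : Diff16.commutator A B M N D b = 0 := LinearMap.ext fun m => by simp [Diff16.commutator, hD b m]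
        rw [h0, LinearMap.comp_zero]
        exact isDiffOpLE_zero k
      | succ p =>
        have hk' : p + n' = k := by omega
        exact hk' ▸ ih (hD b) hD' hk'

end comp

theorem isDiffOpLE_succ_of_generators {s : Set B} (hs : Algebra.adjoin A s = ⊤) {n : ℕ}
    {D : M →ₗ[A] N} (hD : ∀ g ∈ s, IsDiffOpLE A B M N n (Diff16.commutator A B M N D g)) :
    IsDiffOpLE A B M N (n + 1) D := by
  intro b
  have hb : b ∈ Algebra.adjoin A s := hs ▸ Algebra.mem_top
  induction hb using Algebra.adjoin_induction with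
  | mem g hg => exact hD g hg
  | algebraMap a =>
    have : Diff16.commutator A B M N D (algebraMap A B a) = 0 := LinearMap.ext fun m => by simp [Diff16.commutator]
    rw [this]; exact isDiffOpLE_zero n
  | add x y _ _ hx hy =>
    have : Diff16.commutator A B M N D (x + y) = Diff16.commutator A B M N D x + Diff16.commutator A B M N D y :=
      LinearMap.ext fun m => by simp [Diff16.commutator, add_smul]; abel
    rw [this]; exact hx.add hy
  | mul x y _ _ hx hy =>
    have h : delta A (x * y) = (1 : B) ⊗ₜ[A] y * delta A x + (x ⊗ₜ[A] (1 : B)) * delta A y := by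
      simp only [delta, mul_sub, Algebra.TensorProduct.tmul_mul_tmul, one_mul, mul_one, mul_comm y x]
      abel
    rw [commutator_eq, h, map_add, LinearMap.add_apply, act_mul, act_mul, ← commutator_eq,
      ← commutator_eq]
    exact (hx.act_left _).add (hy.act_left _)

theorem linearize_tmul (D : M →ₗ[A] N) (b : B) (m : M) :
    linearize A B M N D (b ⊗ₜ m) = b • D m := rfl

theorem act_apply_eq_linearize {N' : Type u} [AddCommGroup N'] [Module A N'] [Module B N']
    [IsScalarTower A B N'] (D : B →ₗ[A] N') (x : B ⊗[A] B) (m : B) :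
    act A B B N' x D m = linearize A B B N' D (x * (1 ⊗ₜ m)) := by
  induction x using TensorProduct.induction_on with
  | zero => simp
  | tmul b c => simp [linearize_tmul]
  | add x y hx hy => simp [map_add, hx, hy, add_mul]

theorem act_prod_delta_apply {k : ℕ} (b : Fin k → B) (D : M →ₗ[A] N) (t : M) :
    act A B M N (∏ i, delta A (b i)) D t =
      ∑ H : Finset (Fin k), ((-1 : ℤ) ^ H.card) • ((∏ i ∈ H, b i) • D ((∏ i ∈ Hᶜ, b i) • t)) := by
  classical
  have hl : ∀ H : Finset (Fin k), (∏ i ∈ H, (b i ⊗ₜ[A] (1 : B))) = (∏ i ∈ H, b i) ⊗ₜ[A] (1 : B) :=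
    fun H => (map_prod (Algebra.TensorProduct.includeLeft : B →ₐ[A] B ⊗[A] B) _ _).symm
  have hr : ∀ H : Finset (Fin k), (∏ i ∈ H, ((1 : B) ⊗ₜ[A] b i)) = (1 : B) ⊗ₜ[A] (∏ i ∈ H, b i) :=
    fun H => (map_prod (Algebra.TensorProduct.includeRight : B →ₐ[A] B ⊗[A] B) _ _).symm
  simp only [delta, Finset.prod_sub, Finset.powerset_univ, map_sum, LinearMap.sum_apply]
  refine Finset.sum_congr rfl fun H _ => ?_
  rw [hl, hr, ← Finset.compl_eq_univ_sdiff, mul_assoc, Algebra.TensorProduct.tmul_mul_tmul, one_mul,
    mul_one, show ((-1 : B ⊗[A] B) ^ H.card) = (((-1 : ℤ) ^ H.card : ℤ) : B ⊗[A] B) by simp,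
    ← zsmul_eq_mul, map_zsmul, LinearMap.smul_apply, LinearMap.smul_apply, act_tmul]

end Groth.Agent.DiffOp
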