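import Groth.Agent.DiffOp.Basic
import Mathlib.RingTheory.Etale.Basic
import Mathlib.RingTheory.IsTensorProduct

/-!
Extension of differential operators along formally étale algebras.
-/

namespace Groth.Agent.DiffOp

open TensorProduct Diff16

universe u

variable (R S S' : Type u) [CommRing R] [CommRing S] [CommRing S'] [Algebra R S] [Algebra R S']
  [Algebra S S'] [IsScalarTower R S S'] (k : ℕ)

/-- `S ⊗ S → S' ⊗ S`. -/
noncomputable def psi : S ⊗[R] S →ₐ[R] S' ⊗[R] S :=
  Algebra.TensorProduct.map (IsScalarTower.toAlgHom R S S') (AlgHom.id R S)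

/-- `S' ⊗ S → S'`. -/
noncomputable def mu : S' ⊗[R] S →ₐ[R] S' :=
  Algebra.TensorProduct.lift (AlgHom.id R S') (IsScalarTower.toAlgHom R S S') fun _ _ => Commute.all _ _

theorem ker_mu : RingHom.ker (mu R S S').toRingHom =
    (KaehlerDifferential.ideal R S).map (psi R S S').toRingHom := by
  refine le_antisymm (fun x hx => ?_) ?_
  · have key : ∀ x, x - mu R S S' x ⊗ₜ[R] (1 : S) ∈
        (KaehlerDifferential.ideal R S).map (psi R S S').toRingHom := by
      intro x
      induction x using TensorProduct.induction_on with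
      | zero => simp
      | tmul a s =>
        have h : a ⊗ₜ[R] s - mu R S S' (a ⊗ₜ s) ⊗ₜ[R] (1 : S) =
            (a ⊗ₜ[R] (1 : S)) * psi R S S' (delta R s) := by
          simp [mu, psi, delta, mul_sub]
        rw [h]
        exact Ideal.mul_mem_left _ _ (Ideal.mem_map_of_mem _ (delta_mem s))
      | add x y hx hy =>
        rw [map_add, TensorProduct.add_tmul, add_sub_add_comm]
        exact add_mem hx hy
    have hx0 : mu R S S' x = 0 := hx
    have := key x
    rwa [hx0, TensorProduct.zero_tmul, sub_zero] at this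
  · rw [Ideal.map_le_iff_le_comap]
    intro x hx
    show mu R S S' (psi R S S' x) = 0
    have h : (mu R S S').comp (psi R S S') =
        (IsScalarTower.toAlgHom R S S').comp (Algebra.TensorProduct.lmul' R) := by
      ext a <;> simp [mu, psi]
    rw [show mu R S S' (psi R S S' x) = algebraMap S S' (Algebra.TensorProduct.lmul' R x) from
      AlgHom.congr_fun h x, show Algebra.TensorProduct.lmul' R x = 0 from hx, map_zero]

/-- The ideal defining relative principal parts. -/
noncomputable def relIdeal : Ideal (S' ⊗[R] S) :=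
  (KaehlerDifferential.ideal R S ^ (k + 1)).map (psi R S S').toRingHom

/-- Relative principal parts `(S' ⊗ S) / I^(k+1)`, an algebra over `S` through the right factor. -/
def RelPP : Type u := S' ⊗[R] S ⧸ relIdeal R S S' k

noncomputable instance : CommRing (RelPP R S S' k) :=
  inferInstanceAs (CommRing (S' ⊗[R] S ⧸ relIdeal R S S' k))

noncomputable instance : Algebra R (RelPP R S S' k) :=
  inferInstanceAs (Algebra R (S' ⊗[R] S ⧸ relIdeal R S S' k))

/-- The projection. -/
noncomputable def RelPP.mk : S' ⊗[R] S →ₐ[R] RelPP R S S' k :=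
  Ideal.Quotient.mkₐ R (relIdeal R S S' k)

theorem RelPP.mk_surjective : Function.Surjective (RelPP.mk R S S' k) := Ideal.Quotient.mk_surjective

noncomputable instance : Algebra S (RelPP R S S' k) :=
  ((RelPP.mk R S S' k).comp Algebra.TensorProduct.includeRight).toRingHom.toAlgebra

theorem RelPP.algebraMap_eq (s : S) :
    algebraMap S (RelPP R S S' k) s = RelPP.mk R S S' k (1 ⊗ₜ s) := rfl

instance : IsScalarTower R S (RelPP R S S' k) :=
  IsScalarTower.of_algebraMap_eq fun r =>
    (((RelPP.mk R S S' k).comp Algebra.TensorProduct.includeRight).commutes r).symm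

/-- The projection to `S'`. -/
noncomputable def RelPP.toBase : RelPP R S S' k →ₐ[S] S' :=
  { toRingHom := Ideal.Quotient.lift (relIdeal R S S' k) (mu R S S').toRingHom fun x hx => by
      have h : relIdeal R S S' k ≤ RingHom.ker (mu R S S').toRingHom := by
        rw [ker_mu]; exact Ideal.map_mono (Ideal.pow_le_self (Nat.succ_ne_zero k))
      exact h hx
    commutes' := fun s => by
      show mu R S S' (1 ⊗ₜ s) = _
      simp [mu] }

theorem RelPP.toBase_mk (x : S' ⊗[R] S) :
    RelPP.toBase R S S' k (RelPP.mk R S S' k x) = mu R S S' x := rfl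

theorem RelPP.ker_pow :
    RingHom.ker (RelPP.toBase R S S' k).toRingHom ^ (k + 1) = ⊥ := by
  have h : RingHom.ker (RelPP.toBase R S S' k).toRingHom =
      (RingHom.ker (mu R S S').toRingHom).map (RelPP.mk R S S' k).toRingHom := by
    refine le_antisymm (fun x hx => ?_) ?_
    · obtain ⟨x, rfl⟩ := RelPP.mk_surjective R S S' k x
      exact Ideal.mem_map_of_mem _ (show mu R S S' x = 0 from hx)
    · rw [Ideal.map_le_iff_le_comap]
      exact fun x hx => hx
  rw [h, ker_mu, Ideal.map_map, ← Ideal.map_pow, ← Ideal.map_map, eq_bot_iff]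
  exact (Ideal.map_quotient_self (relIdeal R S S' k)).le

variable [Algebra.FormallyEtale S S']

/-- The unique section. -/
noncomputable def RelPP.sect : S' →ₐ[S] RelPP R S S' k :=
  Algebra.FormallySmooth.liftOfSurjective (AlgHom.id S S') (RelPP.toBase R S S' k)
    (fun t => ⟨RelPP.mk R S S' k (t ⊗ₜ 1), by rw [RelPP.toBase_mk]; simp [mu]⟩)
    ⟨k + 1, RelPP.ker_pow R S S' k⟩

theorem RelPP.toBase_sect (t : S') : RelPP.toBase R S S' k (RelPP.sect R S S' k t) = t :=
  Algebra.FormallySmooth.liftOfSurjective_apply _ _ _ _ t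

variable {R S S'} {k}
variable {M : Type u} [AddCommGroup M] [Module S M] [Module R M] [IsScalarTower R S M]
variable {N' : Type u} [AddCommGroup N'] [Module S' N'] [Module S N'] [IsScalarTower S S' N']
  [Module R N'] [IsScalarTower R S' N'] [IsScalarTower R S N']

variable (R S S' M N') in
/-- `S' ⊗ S` acting on maps `M → N'`. -/
noncomputable def act2 : S' ⊗[R] S →ₐ[R] Module.End R (M →ₗ[R] N') :=
  Algebra.TensorProduct.lift (Algebra.lsmul R R (M →ₗ[R] N')) (actR R S M N') fun b c => by
    refine LinearMap.ext fun D => LinearMap.ext fun m => ?_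
    simp [actR]

@[simp]
theorem act2_tmul (t : S') (s : S) (D : M →ₗ[R] N') (m : M) :
    act2 R S S' M N' (t ⊗ₜ s) D m = t • D (s • m) := by
  simp [act2, actR]

theorem act2_psi (x : S ⊗[R] S) (D : M →ₗ[R] N') :
    act2 R S S' M N' (psi R S S' x) D = act R S M N' x D := by
  induction x using TensorProduct.induction_on with
  | zero => simp
  | tmul a b => exact LinearMap.ext fun m => by simp [psi, algebraMap_smul]
  | add x y hx hy => simp [map_add, hx, hy]

theorem act2_eq_zero {D : M →ₗ[R] N'} (hD : IsDiffOpLE R S M N' k D) {x : S' ⊗[R] S}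
    (hx : x ∈ relIdeal R S S' k) : act2 R S S' M N' x D = 0 := by
  induction hx using Submodule.span_induction with
  | mem y hy =>
    obtain ⟨z, hz, rfl⟩ := hy
    exact (act2_psi z D).trans ((isDiffOpLE_iff' k D).1 hD z hz)
  | zero => simp
  | add y z _ _ hy hz => rw [map_add, LinearMap.add_apply, hy, hz, add_zero]
  | smul c y _ hy => rw [smul_eq_mul, map_mul, Module.End.mul_apply, hy, map_zero]

/-- Evaluation at an operator. -/
noncomputable def evalAt (D : M →ₗ[R] N') (hD : IsDiffOpLE R S M N' k D) :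
    RelPP R S S' k →+ (M →ₗ[R] N') :=
  QuotientAddGroup.lift (relIdeal R S S' k).toAddSubgroup
    ((LinearMap.applyₗ D).toAddMonoidHom.comp (act2 R S S' M N').toRingHom.toAddMonoidHom)
    fun _ hx => act2_eq_zero hD hx

theorem evalAt_mk (D : M →ₗ[R] N') (hD : IsDiffOpLE R S M N' k D) (x : S' ⊗[R] S) :
    evalAt D hD (RelPP.mk R S S' k x) = act2 R S S' M N' x D := rfl

/-- Existence of the extension. -/
theorem exists_extension {D : M →ₗ[R] N'} (hD : IsDiffOpLE R S M N' k D) :
    ∃ E : S' ⊗[S] M →ₗ[R] N', IsDiffOpLE R S' (S' ⊗[S] M) N' k E ∧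
      ∀ m, E (1 ⊗ₜ[S] m) = D m := by
  let G := evalAt (S' := S') D hD
  let ρ := RelPP.sect R S S' k
  let E₀ : S' ⊗[S] M →+ N' := TensorProduct.liftAddHom
    (AddMonoidHom.mk' (fun t => (G (ρ t)).toAddMonoidHom) fun t t' => by
      ext m; simp)
    (fun s t m => by
      show G (ρ (s • t)) m = G (ρ t) (s • m)
      rw [map_smul, Algebra.smul_def, RelPP.algebraMap_eq]
      obtain ⟨y, hy⟩ := RelPP.mk_surjective R S S' k (ρ t)
      rw [← hy, ← map_mul, evalAt_mk, evalAt_mk, map_mul, Module.End.mul_apply]
      generalize act2 R S S' M N' y D = F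
      simp)
  have hE₀ : ∀ t m, E₀ (t ⊗ₜ m) = G (ρ t) m := fun t m => rfl
  let E : S' ⊗[S] M →ₗ[R] N' :=
    { toFun := E₀
      map_add' := map_add E₀
      map_smul' := fun r z => by
        simp only [RingHom.id_apply]
        induction z using TensorProduct.induction_on with
        | zero => simp
        | tmul t m =>
          rw [TensorProduct.smul_tmul', hE₀, hE₀]
          obtain ⟨y, hy⟩ := RelPP.mk_surjective R S S' k (ρ t)
          have h1 : ρ (r • t) = RelPP.mk R S S' k (r • y) := by
            rw [map_smul (RelPP.mk R S S' k), hy]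
            exact (ρ.restrictScalars R).toLinearMap.map_smul r t
          rw [h1, ← hy, evalAt_mk, evalAt_mk, map_smul]
          rfl
        | add x y hx hy => rw [smul_add, map_add, map_add, hx, hy, smul_add] }
  refine ⟨E, ?_, fun m => ?_⟩
  · let π : S' ⊗[R] S' →ₐ[R] RelPP R S S' k :=
      Algebra.TensorProduct.lift ((RelPP.mk R S S' k).comp Algebra.TensorProduct.includeLeft)
        (ρ.restrictScalars R) fun _ _ => Commute.all _ _
    have hker : (KaehlerDifferential.ideal R S').map π.toRingHom ≤
        RingHom.ker (RelPP.toBase R S S' k).toRingHom := by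
      rw [Ideal.map_le_iff_le_comap]
      intro x hx
      show RelPP.toBase R S S' k (π x) = 0
      have h : ((RelPP.toBase R S S' k).restrictScalars R).comp π = Algebra.TensorProduct.lmul' R := by
        ext a
        · simp [π, RelPP.toBase_mk, mu]
        · simp [π, ρ, RelPP.toBase_sect, RelPP.toBase_mk, mu, ← Algebra.TensorProduct.one_def]
      exact (AlgHom.congr_fun h x).trans hx
    have hact : ∀ (x : S' ⊗[R] S') (t : S') (m : M),
        act R S' (S' ⊗[S] M) N' x E (t ⊗ₜ m) = G (π x * ρ t) m := by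
      intro x t m
      induction x using TensorProduct.induction_on with
      | zero => simp
      | tmul a b =>
        rw [act_tmul, TensorProduct.smul_tmul', smul_eq_mul]
        show a • E₀ ((b * t) ⊗ₜ[S] m) = _
        rw [hE₀, show π (a ⊗ₜ b) = RelPP.mk R S S' k (a ⊗ₜ 1) * ρ b by simp [π], mul_assoc, ← map_mul]
        obtain ⟨y, hy⟩ := RelPP.mk_surjective R S S' k (ρ (b * t))
        rw [← hy, ← map_mul, evalAt_mk, evalAt_mk, map_mul, Module.End.mul_apply, act2_tmul, one_smul]
      | add x y hx hy =>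
        rw [map_add, LinearMap.add_apply, LinearMap.add_apply, hx, hy, map_add π, add_mul, map_add G,
          LinearMap.add_apply]
    refine (isDiffOpLE_iff' k E).2 fun x hx => ?_
    have hπ : π x = 0 := by
      have h1 : π x ∈ RingHom.ker (RelPP.toBase R S S' k).toRingHom ^ (k + 1) := by
        refine Ideal.pow_right_mono hker _ ?_
        rw [← Ideal.map_pow]
        exact Ideal.mem_map_of_mem _ hx
      rw [RelPP.ker_pow] at h1
      exact h1
    refine LinearMap.ext fun z => ?_
    induction z using TensorProduct.induction_on with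
    | zero => simp
    | tmul t m => rw [hact, hπ, zero_mul, map_zero]; simp
    | add z w hz hw => rw [map_add, hz, hw]; simp
  · show E₀ ((1 : S') ⊗ₜ[S] m) = _
    rw [hE₀, map_one, ← map_one (RelPP.mk R S S' k), evalAt_mk, map_one]
    rfl

/-- Uniqueness of the extension. -/
theorem extension_eq_zero {E : S' ⊗[S] M →ₗ[R] N'}
    (hE : IsDiffOpLE R S' (S' ⊗[S] M) N' k E) (h : ∀ m, E (1 ⊗ₜ[S] m) = 0) : E = 0 := by
  let θ : S' ⊗[R] S →ₐ[R] S' ⊗[R] S' :=
    Algebra.TensorProduct.map (AlgHom.id R S') (IsScalarTower.toAlgHom R S S')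
  have hact : ∀ y m, act R S' (S' ⊗[S] M) N' (θ y) E (1 ⊗ₜ m) = 0 := by
    intro y m
    induction y using TensorProduct.induction_on with
    | zero => simp
    | tmul a s =>
      rw [show θ (a ⊗ₜ s) = a ⊗ₜ algebraMap S S' s from rfl, act_tmul, algebraMap_smul,
        ← TensorProduct.tmul_smul, h, smul_zero]
    | add x y hx hy => rw [map_add, map_add, LinearMap.add_apply, LinearMap.add_apply, hx, hy, add_zero]
  let J := KaehlerDifferential.ideal R S' ^ (k + 1)
  let T := S' ⊗[R] S' ⧸ J
  have hθ : relIdeal R S S' k ≤ J.comap θ.toRingHom := by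
    rw [relIdeal, Ideal.map_le_iff_le_comap]
    refine (Ideal.pow_right_mono (J := ((KaehlerDifferential.ideal R S').comap θ.toRingHom).comap
      (psi R S S').toRingHom) ?_ _).trans ?_
    · intro x hx
      show Algebra.TensorProduct.lmul' R (θ (psi R S S' x)) = 0
      have e : ((Algebra.TensorProduct.lmul' R).comp θ).comp (psi R S S') =
          (IsScalarTower.toAlgHom R S S').comp (Algebra.TensorProduct.lmul' R) := by
        ext a <;> simp [θ, psi]
      rw [show Algebra.TensorProduct.lmul' R (θ (psi R S S' x)) = algebraMap S S'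
        (Algebra.TensorProduct.lmul' R x) from AlgHom.congr_fun e x,
        show Algebra.TensorProduct.lmul' R x = 0 from hx, map_zero]
    · rw [Ideal.comap_comap]
      refine (Ideal.le_comap_pow _ _).trans ?_
      rw [Ideal.comap_comap]
  let χ : RelPP R S S' k →ₐ[R] T := Ideal.quotientMapₐ J θ hθ
  let q : S' ⊗[R] S' →ₐ[R] T := Ideal.Quotient.mkₐ R J
  have key : ∀ t, χ (RelPP.sect R S S' k t) = q (1 ⊗ₜ t) := by
    intro t
    let alg : Algebra S T :=
      (q.toRingHom.comp ((Algebra.TensorProduct.includeRight (R := R) (A := S') (B := S')).toRingHom.comp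
        (algebraMap S S'))).toAlgebra
    let g₁ : @AlgHom S S' T _ _ _ _ alg :=
      @AlgHom.mk S S' T _ _ _ _ alg
        (χ.toRingHom.comp (RelPP.sect R S S' k).toRingHom) fun s => by
          show χ (RelPP.sect R S S' k (algebraMap S S' s)) = q (1 ⊗ₜ algebraMap S S' s)
          rw [AlgHom.commutes]
          rfl
    let g₂ : @AlgHom S S' T _ _ _ _ alg :=
      @AlgHom.mk S S' T _ _ _ _ alg
        (q.toRingHom.comp (Algebra.TensorProduct.includeRight (R := R) (A := S') (B := S')).toRingHom)
        fun s => rfl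
    let f : T →+* S' := Ideal.Quotient.lift J (Algebra.TensorProduct.lmul' R).toRingHom fun x hx =>
      Ideal.pow_le_self (Nat.succ_ne_zero k) hx
    have hf : IsNilpotent (RingHom.ker f) := by
      refine ⟨k + 1, ?_⟩
      have : RingHom.ker f = (KaehlerDifferential.ideal R S').map q.toRingHom := by
        refine le_antisymm (fun x hx => ?_) ?_
        · obtain ⟨x, rfl⟩ := Ideal.Quotient.mk_surjective x
          exact Ideal.mem_map_of_mem q.toRingHom hx
        · rw [Ideal.map_le_iff_le_comap]
          exact fun x hx => hx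
      rw [this, ← Ideal.map_pow]
      exact Ideal.map_quotient_self J
    have := @Algebra.FormallyUnramified.ext' S _ S' _ _ T _ alg _ S' _ f hf g₁ g₂ fun x => by
      show f (χ (RelPP.sect R S S' k x)) = f (q (1 ⊗ₜ x))
      have e1 : ∀ y, f (χ y) = RelPP.toBase R S S' k y := by
        intro y
        obtain ⟨y, rfl⟩ := RelPP.mk_surjective R S S' k y
        show Algebra.TensorProduct.lmul' R (θ y) = mu R S S' y
        exact AlgHom.congr_fun (show (Algebra.TensorProduct.lmul' R).comp θ = mu R S S' by
          ext a <;> simp [θ, mu]) y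
      rw [e1, RelPP.toBase_sect]
      show x = Algebra.TensorProduct.lmul' R ((1 : S') ⊗ₜ[R] x)
      simp
    exact congrArg (fun g : @AlgHom S S' T _ _ _ _ alg => g.toRingHom t) this
  refine LinearMap.ext fun z => ?_
  induction z using TensorProduct.induction_on with
  | zero => simp
  | tmul t m =>
    obtain ⟨y, hy⟩ := RelPP.mk_surjective R S S' k (RelPP.sect R S S' k t)
    have hd : θ y - (1 : S') ⊗ₜ[R] t ∈ J := by
      rw [← Ideal.Quotient.eq]
      exact (congrArg χ hy).trans (key t)
    have h0 := LinearMap.congr_fun ((isDiffOpLE_iff' k E).1 hE _ hd) ((1 : S') ⊗ₜ[S] m)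
    rw [map_sub, LinearMap.sub_apply, LinearMap.sub_apply, hact, act_tmul, one_smul,
      TensorProduct.smul_tmul', smul_eq_mul, mul_one, zero_sub, LinearMap.zero_apply, neg_eq_zero] at h0
    rw [h0, LinearMap.zero_apply]
  | add z w hz hw => rw [map_add, hz, hw]; simp

theorem extension_unique {E E' : S' ⊗[S] M →ₗ[R] N'}
    (hE : IsDiffOpLE R S' (S' ⊗[S] M) N' k E) (hE' : IsDiffOpLE R S' (S' ⊗[S] M) N' k E')
    (h : ∀ m, E (1 ⊗ₜ[S] m) = E' (1 ⊗ₜ[S] m)) : E = E' :=
  sub_eq_zero.1 (extension_eq_zero (hE.sub hE') fun m => by rw [LinearMap.sub_apply, h, sub_self])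

variable {M' : Type u} [AddCommGroup M'] [Module S M'] [Module S' M'] [IsScalarTower S S' M']
  [Module R M'] [IsScalarTower R S' M'] [IsScalarTower R S M']

/-- Extension along any base change map. -/
theorem existsUnique_extension {f : M →ₗ[S] M'} (hf : IsBaseChange S' f) {D : M →ₗ[R] N'}
    (hD : IsDiffOpLE R S M N' k D) :
    ∃! E : M' →ₗ[R] N', IsDiffOpLE R S' M' N' k E ∧ E ∘ₗ f.restrictScalars R = D := by
  let e := hf.equiv
  have he : ∀ m, e (1 ⊗ₜ m) = f m := fun m => by simp [e, IsBaseChange.equiv_tmul]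
  have he' : ∀ m, e.symm (f m) = 1 ⊗ₜ m := fun m => by rw [← he, LinearEquiv.symm_apply_apply]
  obtain ⟨E, hE, hEm⟩ := exists_extension (S' := S') hD
  have hto : ∀ {E : M' →ₗ[R] N'}, IsDiffOpLE R S' M' N' k E →
      IsDiffOpLE R S' (S' ⊗[S] M) N' k (E ∘ₗ e.toLinearMap.restrictScalars R) := fun {E} hE =>
    (isDiffOpLE_iff' k _).2 fun x hx => by
      rw [act_comp_linear_right, (isDiffOpLE_iff' k E).1 hE x hx, LinearMap.zero_comp]
  refine ⟨E ∘ₗ e.symm.toLinearMap.restrictScalars R, ⟨?_, LinearMap.ext fun m => ?_⟩, ?_⟩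
  · exact (isDiffOpLE_iff' k _).2 fun x hx => by
      rw [act_comp_linear_right, (isDiffOpLE_iff' k E).1 hE x hx, LinearMap.zero_comp]
  · show E (e.symm (f m)) = D m
    rw [he', hEm]
  · rintro F ⟨hF, hFD⟩
    have h := extension_unique (hto hF) hE fun m => by
      show F (e (1 ⊗ₜ m)) = _
      rw [he, hEm, ← hFD]; rfl
    refine LinearMap.ext fun z => ?_
    obtain ⟨z, rfl⟩ := e.surjective z
    show F (e z) = E (e.symm (e z))
    rw [LinearEquiv.symm_apply_apply, ← h]
    rfl

end Groth.Agent.DiffOp
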